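import Cfsg.Agent.Lib.FischerUnit14.Assemble
import Cfsg.Agent.Lib.FischerUnit14.Equiv
import Cfsg.Agent.Lib.FischerUnit14.Bij

/-!
# Node C of Fischer's theorem (helper14, helper67, helper70)

A primitive centreless class of width two with affine planes and a non-central local 2-core is that of a
unitary group over four elements. Route: `notes/fischer_nodeC_helper14.md`.
-/

set_option autoImplicit false

namespace Cfsg.Agent.Lib.FischerThm

open Cfsg Cfsg.Agent.Lib.FischerUnit14

universe u

theorem nodeC : NodeC.{u} := by
  refine nodeC_of_vec fun G _ _ F _ _ D d a τ M k Φ S _ => ?_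
  obtain ⟨ω, hω⟩ := exists_cube_root S.card
  exact ⟨phi D d a τ Φ ω, fun x hx => S.phi_iso ω hω hx, fun x hx y hy c hc h => S.phi_inj ω hω hx hy hc h,
    fun v hv => S.phi_surj ω hω hv, fun u hu h x hx => S.equiv_gen hω hu h hx⟩

end Cfsg.Agent.Lib.FischerThm
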